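import Groth.Agent.WeilFin.Classes
import Groth.Agent.H23.CoverPush
import Groth.Agent.FinDescRes.Main
import Groth.Agent.CohBC.God
import Groth.Agent.GeomField.GlobalFunctions
import Groth.Agent.AVPoinc.ExtPowFree
import Groth.Agent.SchTorsor.Props
import Groth.Agent.CurveBC.Etale
import Groth.Agent.S9716

/-!
# The tensor square of the direct image of a torsor under a finite group scheme over a field
-/

set_option autoImplicit false
set_option linter.style.haveILetI false
set_option linter.unusedSectionVars false
set_option backward.isDefEq.respectTransparency false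
set_option backward.isDefEq.respectTransparency.types false
set_option maxHeartbeats 1000000

universe u

open CategoryTheory CategoryTheory.Limits AlgebraicGeometry TopologicalSpace Opposite MonoidalCategory CartesianMonoidalCategory

noncomputable section

namespace Groth.Agent.WeilFin

attribute [local instance] Abelian.hasFiniteBiproducts GeomField.globalAlgebra

variable {k : Type u} [Field k]

theorem nonempty_push_iso_free {G : Scheme.{u}} [G.Over (Spec (CommRingCat.of k))]
    [IsFinite (G ↘ Spec (CommRingCat.of k))] {n : ℕ}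
    (hn : Module.finrank k (Coh.HH G (Coh.structureModule G) 0) = n) :
    Nonempty ((Scheme.Modules.pushforward (G ↘ Spec (CommRingCat.of k))).obj (Coh.structureModule G) ≅
      FlatMod.freeMod (Spec (CommRingCat.of k)) n) := by
  let q := G ↘ Spec (CommRingCat.of k)
  haveI : Flat q := inferInstance
  haveI : IsLocallyNoetherian (Spec (CommRingCat.of k)) := inferInstance
  haveI : LocallyOfFinitePresentation q := inferInstance
  have hPf : FlatMod.IsFinLocFree ((Scheme.Modules.pushforward q).obj (Coh.structureModule G)) :=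
    ((S9716.result q).2 ⟨inferInstance, inferInstance, inferInstance⟩).2
  have hP := CurveBundle.isFinLocFreeOfRank_rk hPf
  obtain ⟨x⟩ : Nonempty (Spec (CommRingCat.of k) : Scheme.{u}) := inferInstance
  obtain ⟨U, hU, hx, ⟨e⟩⟩ := H23.CoverPush.crit_of_isFinLocFreeOfRank_push q hP x
  obtain rfl : U = ⊤ := top_le_iff.1 fun y _ => Subsingleton.elim x y ▸ hx
  set d := CurveBundle.rk ((Scheme.Modules.pushforward q).obj (Coh.structureModule G))
  have hd : Module.finrank k Γ(G, ⊤) = d := by
    letI := H23.CoverPush.alg q ⊤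
    let r : k →+* Γ(Spec (CommRingCat.of k), ⊤) := (Scheme.ΓSpecIso (CommRingCat.of k)).inv.hom
    have hr : Function.Bijective r := (Scheme.ΓSpecIso (CommRingCat.of k)).symm.commRingCatIsoToRingEquiv.bijective
    let ρ := RingEquiv.ofBijective r hr
    let b : Module.Basis (ULift.{u} (Fin d)) Γ(Spec (CommRingCat.of k), ⊤) Γ(G, q ⁻¹ᵁ ⊤) := ⟨e⟩
    letI : Algebra k Γ(G, q ⁻¹ᵁ ⊤) := GeomField.globalAlgebra k G
    show Module.finrank k Γ(G, q ⁻¹ᵁ ⊤) = d
    rw [Algebra.finrank_eq_of_equiv_equiv ρ (RingEquiv.refl Γ(G, q ⁻¹ᵁ ⊤)) (by ext c; rfl),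
      Module.finrank_eq_card_basis b]
    simp
  rw [GeomField.finrank_HH_zero, hd] at hn
  subst hn
  exact AVPoinc.nonempty_iso_freeMod_of_subsingleton hP

variable {X : Scheme.{u}} [X.Over (Spec (CommRingCat.of k))]

/-- The direct image of the structure module of a torsor, tensored with itself. -/
theorem nonempty_tensor_sq [IsLocallyNoetherian X] {G : Over (Spec (CommRingCat.of k))} [GrpObj G]
    [IsFinite G.hom] {n : ℕ}
    (eG : (Scheme.Modules.pushforward G.hom).obj (Coh.structureModule G.left) ≅
      FlatMod.freeMod (Spec (CommRingCat.of k)) n)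
    {P : Over X} (a : AlgGrp.Action (Red.bc (X ↘ Spec (CommRingCat.of k)) G) P)
    (hP : NonAbH1.IsTorsorFor Scheme.fppfPrecoverage a) :
    Nonempty (CohB1.tensorMod ((Scheme.Modules.pushforward P.hom).obj (Coh.structureModule P.left))
        ((Scheme.Modules.pushforward P.hom).obj (Coh.structureModule P.left)) ≅
      ∐ fun _ : Fin n => (Scheme.Modules.pushforward P.hom).obj (Coh.structureModule P.left)) := by
  let s := X ↘ Spec (CommRingCat.of k)
  let GX := Red.bc s G
  have h' : NonAbH1.IsTorsorFor Scheme.fpqcPrecoverage a :=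
    ⟨hP.1, hP.2.choose, Scheme.fppfPrecoverage_le_fpqcPrecoverage _ hP.2.choose_spec.1, hP.2.choose_spec.2⟩
  haveI := EtFound.fpqc_isFinite.{u}
  haveI : Flat G.hom := inferInstance
  haveI : LocallyOfFinitePresentation G.hom := inferInstance
  haveI : IsFinite P.hom := SchTorsor.torsor_property @IsFinite h' (MorphismProperty.pullback_snd _ _ ‹IsFinite G.hom›)
  haveI : Flat P.hom := SchTorsor.torsor_property @Flat h' (MorphismProperty.pullback_snd _ _ ‹Flat G.hom›)
  haveI : LocallyOfFinitePresentation P.hom :=
    SchTorsor.torsor_property @LocallyOfFinitePresentation h'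
      (MorphismProperty.pullback_snd _ _ ‹LocallyOfFinitePresentation G.hom›)
  haveI : IsLocallyNoetherian P.left := LocallyOfFiniteType.isLocallyNoetherian P.hom
  -- the square of the torsor is the pullback of the group
  haveI : IsIso (lift a.act (snd GX P)) := hP.1
  let e := lift a.act (snd GX P)
  haveI : IsIso e.left := (Over.forget X).map_isIso e
  let eL : pullback GX.hom P.hom ⟶ pullback P.hom P.hom := e.left
  haveI : IsIso eL := ‹IsIso e.left›
  have he : eL ≫ pullback.snd P.hom P.hom = pullback.snd GX.hom P.hom := by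
    have h1 : e ≫ snd P P = snd GX P := lift_snd _ _
    exact congrArg CommaMorphism.left h1
  let π : pullback P.hom P.hom ⟶ P.left := pullback.snd P.hom P.hom
  have sq1 : IsPullback (inv eL ≫ pullback.fst GX.hom P.hom) π GX.hom P.hom := by
    refine (IsPullback.of_hasPullback GX.hom P.hom).of_iso (asIso eL) (Iso.refl _) (Iso.refl _) (Iso.refl _) ?_ ?_ ?_ ?_
    · simp
    · simpa [π] using he.symm
    · simp
    · simp
  have sq2 : IsPullback ((inv eL ≫ pullback.fst GX.hom P.hom) ≫ pullback.fst G.hom s) π G.hom (P.hom ≫ s) :=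
    sq1.paste_horiz (IsPullback.of_hasPullback G.hom s)
  haveI : Flat (P.hom ≫ s) := inferInstance
  haveI := CohBC.isIso_bc0 G.hom (P.hom ≫ s) ((inv eL ≫ pullback.fst GX.hom P.hom) ≫ pullback.fst G.hom s) π sq2
    (M := Coh.structureModule G.left) QCoh.isQCoh_structureModule
  haveI := CohBC.isIso_bc0 P.hom P.hom (pullback.fst P.hom P.hom) π (IsPullback.of_hasPullback P.hom P.hom)
    (M := Coh.structureModule P.left) QCoh.isQCoh_structureModule
  obtain ⟨u1⟩ := PicClLib.nonempty_pullback_structureModule (pullback.fst P.hom P.hom)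
  obtain ⟨u2⟩ := PicClLib.nonempty_pullback_structureModule
    ((inv eL ≫ pullback.fst GX.hom P.hom) ≫ pullback.fst G.hom s)
  let E := (Scheme.Modules.pushforward P.hom).obj (Coh.structureModule P.left)
  let b : (Scheme.Modules.pullback P.hom).obj E ≅ FlatMod.freeMod P.left n :=
    asIso (CohBC.bc0 P.hom P.hom π (pullback.fst P.hom P.hom) (IsPullback.of_hasPullback P.hom P.hom).w
      (Coh.structureModule P.left)) ≪≫
    (Scheme.Modules.pushforward π).mapIso (u1 ≪≫ u2.symm) ≪≫
    (asIso (CohBC.bc0 G.hom (P.hom ≫ s) π ((inv eL ≫ pullback.fst GX.hom P.hom) ≫ pullback.fst G.hom s) sq2.w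
      (Coh.structureModule G.left))).symm ≪≫
    (Scheme.Modules.pullback (P.hom ≫ s)).mapIso eG ≪≫ KFlatLib.pullFreeIso (P.hom ≫ s) n
  have hEf : FlatMod.IsFinLocFree E := ((S9716.result P.hom).2 ⟨inferInstance, inferInstance, inferInstance⟩).2
  obtain ⟨p⟩ := FinDescRes.nonempty_tensor_push P.hom (QCoh.isQCoh_of_isFinLocFree hEf) hEf
  let F : Fin n → P.left.Modules := fun _ => Coh.structureModule P.left
  haveI : (Scheme.Modules.pushforward P.hom).Additive := inferInstance
  exact ⟨p ≪≫ (Scheme.Modules.pushforward P.hom).mapIso (b ≪≫ (biproduct.isoCoproduct F).symm) ≪≫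
    (Scheme.Modules.pushforward P.hom).mapBiproduct F ≪≫ biproduct.isoCoproduct _⟩

end Groth.Agent.WeilFin
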