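import Groth.Agent.WeilFin.Classes
import Groth.Agent.H23.TraceSplit
import Groth.Agent.H23.CoverPush
import Groth.Agent.H23.FinTrace
import Groth.Agent.FinDescRes.Main
import Groth.Agent.AVEuler.Split
import Groth.Agent.CurveBC.Etale
import Groth.Agent.S9716

/-!
# A bundle trivialised by a finite flat cover of invertible degree is finite in the sense of Weil
-/

set_option autoImplicit false
set_option linter.style.haveILetI false
set_option linter.unusedSectionVars false
set_option backward.isDefEq.respectTransparency false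
set_option backward.isDefEq.respectTransparency.types false
set_option maxHeartbeats 1000000

universe u

open CategoryTheory CategoryTheory.Limits AlgebraicGeometry TopologicalSpace Opposite Polynomial

noncomputable section

namespace Groth.Agent.WeilFin

attribute [local instance] Abelian.hasFiniteBiproducts preservesBinaryBiproducts_of_preservesBiproducts

variable {X Y : Scheme.{u}}

theorem cls_push_free (f : Y ⟶ X) (r : ℕ) :
    cls ((Scheme.Modules.pushforward f).obj (FlatMod.freeMod Y r)) =
      r • cls ((Scheme.Modules.pushforward f).obj (Coh.structureModule Y)) := by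
  let F : Fin r → Y.Modules := fun _ => Coh.structureModule Y
  haveI : (Scheme.Modules.pushforward f).Additive := inferInstance
  rw [cls_congr ((Scheme.Modules.pushforward f).mapIso (biproduct.isoCoproduct F).symm ≪≫
    (Scheme.Modules.pushforward f).mapBiproduct F ≪≫ biproduct.isoCoproduct _), cls_coprod]
  simp [F]

variable (k : Type u) [Field k] [X.Over (Spec (CommRingCat.of k))] [IsProper (X ↘ Spec (CommRingCat.of k))]

theorem isUnit_natCast [CharZero k] {d : ℕ} (hd : d ≠ 0) : IsUnit (d : Γ(X, ⊤)) := by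
  have h : IsUnit (d : k) := IsUnit.mk0 _ (Nat.cast_ne_zero.2 hd)
  have h2 := h.map (Coh.toGlobal (X ↘ Spec (CommRingCat.of k)))
  rwa [map_natCast] at h2

include k in
theorem isWeil_of_trivial_pullback [CharZero k] [IsIntegral X] (f : Y ⟶ X) [IsFinite f] [Flat f]
    [LocallyOfFinitePresentation f] [Surjective f] {E : X.Modules} (hE : FlatMod.IsFinLocFree E) {r : ℕ}
    (e : (Scheme.Modules.pullback f).obj E ≅ FlatMod.freeMod Y r) : IsWeil (cls E) := by
  haveI : IsNoetherian X := ASB.isNoetherian_of_proper (X ↘ Spec (CommRingCat.of k))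
  let A := RelSpec.QCAlg.directImage f
  let P := (Scheme.Modules.pushforward f).obj (Coh.structureModule Y)
  have hPf : FlatMod.IsFinLocFree P := ((S9716.result f).2 ⟨inferInstance, inferInstance, inferInstance⟩).2
  have hP := CurveBundle.isFinLocFreeOfRank_rk hPf
  let d := CurveBundle.rk P
  have hd : d ≠ 0 := fun h0 => by
    obtain ⟨U, hU, hy, ⟨g⟩⟩ := H23.CoverPush.crit_of_isFinLocFreeOfRank_push f
      (show FlatMod.IsFinLocFreeOfRank 0 P from h0 ▸ hP) (genericPoint X)
    haveI : Subsingleton Γ(Y, f ⁻¹ᵁ U) := g.toEquiv.subsingleton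
    obtain ⟨y, hy'⟩ := f.surjective (genericPoint X)
    exact not_nontrivial _ ((Y.presheaf.germ (f ⁻¹ᵁ U) y (show f y ∈ U from hy'.symm ▸ hy)).hom.domain_nontrivial)
  have hA : FlatMod.IsFinLocFreeOfRank d A.toModule := fun x =>
    let ⟨U, hx, ⟨g⟩⟩ := hP x
    ⟨U, hx, ⟨(Scheme.Modules.restrictFunctor U.ι).mapIso (show A.toModule ≅ P from Iso.refl _) ≪≫ g⟩⟩
  obtain ⟨τ, hτ, -⟩ := H23.FinTrace.existsUnique_isTrace (H23.DblAlg.isFinLocFree_of_rank hA)
  obtain ⟨σ, hσ, -⟩ := H23.TraceSplit.exists_section hA hτ (isUnit_natCast k hd)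
  obtain ⟨K, φ, -⟩ := ASB.exists_split σ τ hσ
  let φ' : P ≅ Coh.structureModule X ⊞ K := (show P ≅ A.toModule from Iso.refl _) ≪≫ φ
  have hKf : FlatMod.IsFinLocFree K :=
    ASB.isFinLocFree_of_retract hPf (biprod.inr ≫ φ'.inv) (φ'.hom ≫ biprod.snd) (by simp)
  obtain ⟨p⟩ := FinDescRes.nonempty_tensor_push f (QCoh.isQCoh_of_isFinLocFree hE) hPf
  have hPE : cls P * cls E = r • cls P := by
    rw [← cls_push_free f r, ← cls_congr ((Scheme.Modules.pushforward f).mapIso e)]
    exact cls_congr p
  have hOK : cls P = 1 + cls K := (cls_congr φ').trans (cls_add _ _).symm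
  rw [← isWeil_lf hE]
  refine isWeil_of_bdd (delta X k) ⟨supp (delta X k) (lf hPf), fun n => ?_⟩
  have hn : lf hE ^ n + lf hKf * lf hE ^ n = (r ^ n) • lf hPf := by
    refine Subtype.ext ?_
    show cls E ^ n + cls K * cls E ^ n = (r ^ n) • cls P
    induction n with
    | zero => rw [pow_zero, mul_one, ← hOK, pow_zero, one_smul]
    | succ n ih =>
      rw [pow_succ (cls E), ← mul_assoc, ← add_mul, ih, smul_mul_assoc, hPE, smul_smul, ← pow_succ]
  intro i hi
  have h1 := supp_add (delta X k) _ (lf hKf * lf hE ^ n) hi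
  rw [hn, mem_supp, map_nsmul, Finsupp.smul_apply] at h1
  rw [mem_supp]
  exact fun h0 => h1 (by rw [h0, smul_zero])

end Groth.Agent.WeilFin
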