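import Groth.Agent.WeilFin.Classes
import Groth.Agent.ParaFX.PushTriv

/-!
# Weil finiteness of invertible modules
-/

set_option autoImplicit false
set_option linter.style.haveILetI false
set_option linter.unusedSectionVars false
set_option backward.isDefEq.respectTransparency false
set_option backward.isDefEq.respectTransparency.types false
set_option maxHeartbeats 1000000

universe u

open CategoryTheory CategoryTheory.Limits AlgebraicGeometry TopologicalSpace Opposite

noncomputable section

namespace Groth.Agent.WeilFin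

variable {X : Scheme.{u}}

theorem one_app_ne_zero [IsIntegral X] :
    (show Γ(Coh.structureModule X, ⊤) from (1 : Γ(X, ⊤))) ≠ 0 := by
  haveI : Nonempty (⊤ : X.Opens) := ⟨⟨genericPoint X, trivial⟩⟩
  exact one_ne_zero (α := Γ(X, ⊤))

/-- On an integral scheme the structure module is indecomposable. -/
theorem indec_structureModule [IsIntegral X] : ASB.Indec (Coh.structureModule X) := by
  haveI : Nonempty (⊤ : X.Opens) := ⟨⟨genericPoint X, trivial⟩⟩
  refine ⟨fun h => one_app_ne_zero (X := X) ?_, fun A B ⟨φ⟩ => ?_⟩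
  · have h0 := congrArg (fun f : Coh.structureModule X ⟶ Coh.structureModule X =>
      f.app ⊤ (1 : Γ(X, ⊤))) ((IsZero.iff_id_eq_zero _).1 h)
    exact h0
  · let e : Coh.structureModule X ⟶ Coh.structureModule X := φ.hom ≫ biprod.fst ≫ biprod.inl ≫ φ.inv
    let a : Γ(X, ⊤) := e.app ⊤ (1 : Γ(X, ⊤))
    have hee : e ≫ e = e := by simp [e]
    have ha : a * a = a := by
      have h1 : e.app ⊤ (show Γ(Coh.structureModule X, ⊤) from a) = (show Γ(Coh.structureModule X, ⊤) from a) :=
        congrArg (fun f : Coh.structureModule X ⟶ Coh.structureModule X => f.app ⊤ (1 : Γ(X, ⊤))) hee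
      refine Eq.trans ?_ h1
      refine Eq.trans ?_ (congrArg (e.app ⊤) (show a • (show Γ(Coh.structureModule X, ⊤) from (1 : Γ(X, ⊤))) = _ from mul_one a))
      exact (Scheme.Modules.Hom.app_smul e a _).symm
    rcases eq_zero_or_eq_one_of_idem a ha with h | h
    · have he : e = 0 := FreeEquiv.hom_ext_one _ _ h
      left
      rw [IsZero.iff_id_eq_zero]
      have h2 : (biprod.inl ≫ φ.inv) ≫ e ≫ φ.hom ≫ biprod.fst = 𝟙 A := by simp [e]
      rw [← h2, he]
      simp
    · have he : e = 𝟙 _ := FreeEquiv.hom_ext_one _ _ h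
      right
      rw [IsZero.iff_id_eq_zero]
      have h2 : (biprod.inr ≫ φ.inv) ≫ e ≫ φ.hom ≫ biprod.snd = 0 := by simp [e]
      rw [← h2, he]
      simp
where
  eq_zero_or_eq_one_of_idem [IsIntegral X] [Nonempty (⊤ : X.Opens)] (a : Γ(X, ⊤)) (h : a * a = a) : a = 0 ∨ a = 1 := by
    have : a * (a - 1) = 0 := by rw [mul_sub, mul_one, h, sub_self]
    exact (mul_eq_zero.1 this).imp id sub_eq_zero.1

variable (k : Type u) [Field k] [X.Over (Spec (CommRingCat.of k))] [IsProper (X ↘ Spec (CommRingCat.of k))]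

theorem size_one [IsIntegral X] : size (delta X k) (1 : lfClasses X) = 1 := by
  classical
  have hO := (lfClasses X).one_mem
  obtain ⟨M, hM, hMf⟩ := hO
  obtain ⟨e⟩ := cls_eq_iff.1 hM
  let a : Ind X := ⟨1, Coh.structureModule X, rfl, H23.PullPush.isFinLocFree_of_iso e.symm hMf, indec_structureModule⟩
  have h1 : ofMultiset X {a} = 1 := Subtype.ext (by rw [val_ofMultiset]; simp [a])
  have hd : delta X k 1 = Finsupp.single a 1 := by
    show Multiset.toFinsupp ((AddEquiv.ofBijective (ofMultiset X) (ofMultiset_bijective X k)).symm 1) = _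
    have h2 : (AddEquiv.ofBijective (ofMultiset X) (ofMultiset_bijective X k)).symm 1 = {a} := by
      rw [AddEquiv.symm_apply_eq, AddEquiv.ofBijective_apply, h1]
    rw [h2, Multiset.toFinsupp_singleton]
  show (Finsupp.liftAddHom fun _ : Ind X => AddMonoidHom.id ℕ) (delta X k 1) = 1
  rw [hd, Finsupp.liftAddHom_apply_single]
  rfl

include k in
/-- An invertible module is finite in the sense of Weil if and only if it is torsion. -/
theorem isWeil_invertible_iff [IsIntegral X] {L : X.Modules} (hL : PicF.IsInvertible L) :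
    IsWeil (cls L) ↔ ∃ m : ℕ, 0 < m ∧ Nonempty (CohB1.tensorPow L m ≅ Coh.structureModule X) := by
  have hLf := KZ.CycleClass.isFinLocFree_of_rank (InvEnd.isFinLocFreeOfRank_one hL)
  constructor
  · intro h
    obtain ⟨D, hD, ⟨e⟩⟩ := H23.PicInv.exists_inverse hL
    have hu : IsUnit (lf hLf) := IsUnit.of_mul_eq_one
      (lf (KZ.CycleClass.isFinLocFree_of_rank (InvEnd.isFinLocFreeOfRank_one hD))) (Subtype.ext (cls_congr e))
    obtain ⟨m, hm, he⟩ := exists_pow_eq_one (delta X k) (size_one k) hu ((isWeil_lf hLf).2 h)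
    refine ⟨m, hm, cls_eq_iff.1 ?_⟩
    have := congrArg Subtype.val he
    rw [SubmonoidClass.coe_pow] at this
    rw [cls_tensorPow]
    exact this
  · rintro ⟨m, hm, h⟩
    haveI : Nontrivial (Cls X) := ⟨1, 0, fun h0 => indec_structureModule.1 (by
      obtain ⟨e⟩ := cls_eq_iff.1 (cls_one.symm.trans (h0.trans cls_zero))
      exact ASB.isZero_top.of_iso e)⟩
    refine isWeil_of_pow_eq_one hm ?_
    rw [← cls_tensorPow, cls_eq_iff.2 h]
    rfl

end Groth.Agent.WeilFin
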