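import Groth.Agent.WeilFin.Semiring
import Groth.Agent.ASB.Pic
import Groth.Agent.ASB.Hom
import Groth.Agent.ASB.GenNeg
import Groth.Agent.H23.PicMul
import Groth.Agent.Lib.InvEnd
import Groth.Agent.KZ.CycleTensor

/-!
# The semiring of classes of finite locally free modules

On a proper scheme over a field it is free on the indecomposable classes (Krull–Schmidt).
-/

set_option autoImplicit false
set_option linter.style.haveILetI false
set_option linter.unusedSectionVars false
set_option backward.isDefEq.respectTransparency false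
set_option backward.isDefEq.respectTransparency.types false
set_option maxHeartbeats 1000000

universe u

open CategoryTheory CategoryTheory.Limits AlgebraicGeometry TopologicalSpace Opposite Polynomial

noncomputable section

namespace Groth.Agent.WeilFin

attribute [local instance] Abelian.hasFiniteBiproducts preservesBinaryBiproducts_of_preservesBiproducts

variable (X : Scheme.{u})

/-- Isomorphism classes of modules. -/
def Cls : Type (u + 1) := Quotient (isIsomorphicSetoid X.Modules)

variable {X}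

/-- The class of a module. -/
def cls (M : X.Modules) : Cls X := Quotient.mk (isIsomorphicSetoid X.Modules) M

theorem cls_eq_iff {M N : X.Modules} : cls M = cls N ↔ Nonempty (M ≅ N) :=
  ⟨fun h => Quotient.exact h, fun h => Quotient.sound h⟩

theorem cls_congr {M N : X.Modules} (e : M ≅ N) : cls M = cls N := cls_eq_iff.2 ⟨e⟩

theorem exists_rep (c : Cls X) : ∃ M, c = cls M := ⟨Quotient.out c, (Quotient.out_eq c).symm⟩

instance : Zero (Cls X) := ⟨cls (⊤_ X.Modules)⟩

instance : One (Cls X) := ⟨cls (Coh.structureModule X)⟩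

instance : Add (Cls X) :=
  ⟨Quotient.map₂ (fun M N => M ⊞ N) fun _ _ ⟨e⟩ _ _ ⟨f⟩ => ⟨biprod.mapIso e f⟩⟩

instance : Mul (Cls X) :=
  ⟨Quotient.map₂ (fun M N => CohB1.tensorMod M N) fun _ _ ⟨e⟩ _ _ ⟨f⟩ => ⟨PicGrp.tensorModIso e f⟩⟩

theorem cls_add (M N : X.Modules) : cls M + cls N = cls (M ⊞ N) := rfl

theorem cls_mul (M N : X.Modules) : cls M * cls N = cls (CohB1.tensorMod M N) := rfl

theorem cls_zero : (0 : Cls X) = cls (⊤_ X.Modules) := rfl

theorem cls_one : (1 : Cls X) = cls (Coh.structureModule X) := rfl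

theorem cls_eq_zero {M : X.Modules} (h : IsZero M) : cls M = 0 := cls_congr (h.iso ASB.isZero_top)

theorem cls_zero_add (M : X.Modules) : (0 : Cls X) + cls M = cls M := by
  refine cls_congr ⟨biprod.snd, biprod.inr, ?_, biprod.inr_snd⟩
  refine Eq.trans ?_ (biprod.total (X := ⊤_ X.Modules) (Y := M))
  rw [(ASB.isZero_top (C := X.Modules)).eq_of_tgt (biprod.fst : (⊤_ X.Modules) ⊞ M ⟶ _) 0, Limits.zero_comp, zero_add]

theorem cls_mul_comm (a b : Cls X) : a * b = b * a := by
  obtain ⟨M, rfl⟩ := exists_rep a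
  obtain ⟨N, rfl⟩ := exists_rep b
  exact cls_eq_iff.2 (H23.PicMul.comm M N)

theorem cls_mul_add (a b c : Cls X) : a * (b + c) = a * b + a * c := by
  obtain ⟨M, rfl⟩ := exists_rep a
  obtain ⟨N, rfl⟩ := exists_rep b
  obtain ⟨P, rfl⟩ := exists_rep c
  haveI := preservesBinaryBiproducts_of_preservesBiproducts (DCoh.tensorBi.obj M)
  exact cls_congr ((DCoh.tensorBi.obj M).mapBiprod N P)

theorem cls_mul_zero (a : Cls X) : a * 0 = 0 := by
  obtain ⟨M, rfl⟩ := exists_rep a
  exact cls_eq_zero ((DCoh.tensorBi.obj M).map_isZero ASB.isZero_top)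

theorem cls_add_comm (a b : Cls X) : a + b = b + a := by
  obtain ⟨M, rfl⟩ := exists_rep a
  obtain ⟨N, rfl⟩ := exists_rep b
  exact cls_congr (biprod.braiding M N)

theorem cls_add_assoc (a b c : Cls X) : a + b + c = a + (b + c) := by
  obtain ⟨M, rfl⟩ := exists_rep a
  obtain ⟨N, rfl⟩ := exists_rep b
  obtain ⟨P, rfl⟩ := exists_rep c
  exact cls_congr (biprod.associator M N P)

theorem cls_mul_assoc (a b c : Cls X) : a * b * c = a * (b * c) := by
  obtain ⟨M, rfl⟩ := exists_rep a
  obtain ⟨N, rfl⟩ := exists_rep b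
  obtain ⟨P, rfl⟩ := exists_rep c
  exact cls_eq_iff.2 (H23.PicMul.assoc M N P)

theorem cls_mul_one (a : Cls X) : a * 1 = a := by
  obtain ⟨M, rfl⟩ := exists_rep a
  exact cls_eq_iff.2 (H23.PicMul.unit M)

instance : CommSemiring (Cls X) where
  add_assoc := cls_add_assoc
  zero_add a := by obtain ⟨M, rfl⟩ := exists_rep a; exact cls_zero_add M
  add_zero a := by obtain ⟨M, rfl⟩ := exists_rep a; rw [cls_add_comm]; exact cls_zero_add M
  add_comm := cls_add_comm
  left_distrib := cls_mul_add
  right_distrib a b c := by rw [cls_mul_comm, cls_mul_add, cls_mul_comm c a, cls_mul_comm c b]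
  zero_mul a := by rw [cls_mul_comm]; exact cls_mul_zero a
  mul_zero := cls_mul_zero
  mul_assoc := cls_mul_assoc
  one_mul a := by rw [cls_mul_comm]; exact cls_mul_one a
  mul_one := cls_mul_one
  mul_comm := cls_mul_comm
  nsmul := nsmulRec

theorem cls_sumL : ∀ l : List X.Modules, cls (ASB.sumL l) = (l.map cls).sum
  | [] => rfl
  | M :: l => by
    rw [List.map_cons, List.sum_cons, ← cls_sumL l, cls_add]
    rfl

theorem cls_coprod {n : ℕ} (F : Fin n → X.Modules) : cls (∐ F) = ∑ i, cls (F i) := by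
  obtain ⟨e⟩ := ASB.coprod_ofFn F
  rw [cls_congr e, cls_sumL, List.map_ofFn, List.sum_ofFn]
  rfl

theorem cls_tensorPow (M : X.Modules) : ∀ n : ℕ, cls (CohB1.tensorPow M n) = cls M ^ n
  | 0 => by rw [pow_zero]; rfl
  | n + 1 => by
    rw [pow_succ, ← cls_tensorPow M n]
    rfl

theorem cls_eval (E : X.Modules) (P : ℕ[X]) :
    cls (∐ fun i : Fin (P.natDegree + 1) => ∐ fun _ : Fin (P.coeff ↑i) => CohB1.tensorPow E ↑i) =
      P.eval₂ (Nat.castRingHom (Cls X)) (cls E) := by
  rw [cls_coprod, eval₂_eq_sum_range, Finset.sum_range]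
  refine Finset.sum_congr rfl fun i _ => ?_
  rw [cls_coprod, Finset.sum_const, Finset.card_univ, Fintype.card_fin, cls_tensorPow, nsmul_eq_mul]
  rfl

theorem isWeil_iff (E : X.Modules) :
    (∃ P Q : ℕ[X], P ≠ Q ∧
      Nonempty ((∐ fun i : Fin (P.natDegree + 1) => ∐ fun _ : Fin (P.coeff ↑i) => CohB1.tensorPow E ↑i) ≅
        (∐ fun i : Fin (Q.natDegree + 1) => ∐ fun _ : Fin (Q.coeff ↑i) => CohB1.tensorPow E ↑i))) ↔
      IsWeil (cls E) := by
  refine exists_congr fun P => exists_congr fun Q => and_congr_right fun _ => ?_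
  rw [← cls_eq_iff, cls_eval, cls_eval]

variable (X)

/-- The classes of finite locally free modules. -/
def lfClasses : Subsemiring (Cls X) where
  carrier := {c | ∃ M, c = cls M ∧ FlatMod.IsFinLocFree M}
  one_mem' := ⟨_, rfl, KZ.CycleClass.isFinLocFree_of_rank (InvEnd.isFinLocFreeOfRank_one InvX.isInvertible_structureModule)⟩
  zero_mem' := ⟨_, rfl, KFlatLib.isFinLocFree_of_isZero ASB.isZero_top⟩
  add_mem' := by
    rintro a b ⟨M, rfl, hM⟩ ⟨N, rfl, hN⟩
    exact ⟨_, rfl, KFlatLib.isFinLocFree_biprod hM hN⟩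
  mul_mem' := by
    rintro a b ⟨M, rfl, hM⟩ ⟨N, rfl, hN⟩
    exact ⟨_, rfl, KFlatLib.isFinLocFree_tensor hM hN⟩

variable {X}

/-- The class of a finite locally free module, as an element of the semiring. -/
def lf {M : X.Modules} (hM : FlatMod.IsFinLocFree M) : lfClasses X := ⟨cls M, M, rfl, hM⟩

theorem lf_add {M N : X.Modules} (hM : FlatMod.IsFinLocFree M) (hN : FlatMod.IsFinLocFree N) :
    lf hM + lf hN = lf (KFlatLib.isFinLocFree_biprod hM hN) := rfl

theorem isWeil_lf {M : X.Modules} (hM : FlatMod.IsFinLocFree M) : IsWeil (lf hM) ↔ IsWeil (cls M) := by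
  refine ⟨fun h => h.map (lfClasses X).subtype, ?_⟩
  rintro ⟨P, Q, hne, he⟩
  refine ⟨P, Q, hne, Subtype.ext ?_⟩
  have h1 : ∀ R : ℕ[X], (lfClasses X).subtype (R.eval₂ (Nat.castRingHom (lfClasses X)) (lf hM)) =
      R.eval₂ (Nat.castRingHom (Cls X)) (cls M) := fun R => by
    rw [hom_eval₂, Subsingleton.elim ((lfClasses X).subtype.comp (Nat.castRingHom _)) (Nat.castRingHom (Cls X))]
    rfl
  exact (h1 P).trans (he.trans (h1 Q).symm)

variable (X)

/-- The indecomposable classes of finite locally free modules. -/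
def Ind : Type (u + 1) := {c : Cls X // ∃ M, c = cls M ∧ FlatMod.IsFinLocFree M ∧ ASB.Indec M}

/-- An indecomposable class, as an element of the semiring. -/
def Ind.toLF (a : Ind X) : lfClasses X :=
  ⟨a.1, by obtain ⟨M, h, hM, -⟩ := a.2; exact ⟨M, h, hM⟩⟩

/-- The element with given indecomposable summands. -/
def ofMultiset : Multiset (Ind X) →+ lfClasses X where
  toFun s := (s.map (Ind.toLF X)).sum
  map_zero' := rfl
  map_add' s t := by rw [Multiset.map_add, Multiset.sum_add]

theorem val_ofMultiset (s : Multiset (Ind X)) : (ofMultiset X s).1 = (s.map Subtype.val).sum := by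
  show (lfClasses X).subtype _ = _
  rw [show ofMultiset X s = (s.map (Ind.toLF X)).sum from rfl, map_multiset_sum, Multiset.map_map]
  rfl

variable (k : Type u) [Field k] [X.Over (Spec (CommRingCat.of k))] [IsProper (X ↘ Spec (CommRingCat.of k))]

include k in
theorem ofMultiset_bijective : Function.Bijective (ofMultiset X) := by
  haveI : IsLocallyNoetherian X := LocallyOfFiniteType.isLocallyNoetherian (X ↘ Spec (CommRingCat.of k))
  refine ⟨fun s t hst => ?_, fun c => ?_⟩
  · obtain ⟨l, rfl⟩ : ∃ l : List (Ind X), (l : Multiset (Ind X)) = s := Quotient.exists_rep s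
    obtain ⟨l', rfl⟩ : ∃ l' : List (Ind X), (l' : Multiset (Ind X)) = t := Quotient.exists_rep t
    choose M hM using fun a : Ind X => a.2
    have hcls : ∀ l : List (Ind X), ASB.clsL (l.map M) = ((l : Multiset (Ind X)).map Subtype.val) := fun l => by
      rw [Multiset.map_coe, ASB.clsL, List.map_map]
      exact congrArg _ (List.map_congr_left fun a _ => (hM a).1.symm)
    have hsum : ∀ l : List (Ind X), (ofMultiset X (l : Multiset (Ind X))).1 = cls (ASB.sumL (l.map M)) := fun l => by
      rw [val_ofMultiset, cls_sumL, Multiset.map_coe, Multiset.sum_coe, List.map_map]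
      exact congrArg _ (List.map_congr_left fun a _ => (hM a).1)
    have e : cls (ASB.sumL (l.map M)) = cls (ASB.sumL (l'.map M)) := by rw [← hsum, ← hsum, hst]
    have hcoh : Coh.IsCoh (ASB.sumL (l.map M)) := by
      refine CurveDeg.isCoh_of_isFinLocFree ?_
      obtain ⟨N, hN, hNf⟩ := (ofMultiset X (l : Multiset (Ind X))).2
      obtain ⟨φ⟩ := cls_eq_iff.1 ((hsum l).symm.trans hN)
      exact H23.PullPush.isFinLocFree_of_iso φ.symm hNf
    haveI := ASB.finite_hom (k := k) X hcoh hcoh
    have hind : ∀ (l : List (Ind X)), ∀ Y ∈ l.map M, ASB.Indec Y := fun l Y hY => by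
      obtain ⟨a, -, rfl⟩ := List.mem_map.1 hY
      exact (hM a).2.2
    have h := ASB.clsL_eq k (l.map M) (l'.map M) (hind l) (hind l') (cls_eq_iff.1 e)
    rw [hcls, hcls] at h
    exact Multiset.map_injective Subtype.val_injective h
  · obtain ⟨c, M, rfl, hM⟩ := c
    haveI := ASB.finite_hom (k := k) X (CurveDeg.isCoh_of_isFinLocFree hM) (CurveDeg.isCoh_of_isFinLocFree hM)
    obtain ⟨l, hl, ⟨e⟩⟩ := ASB.exists_decomp k M
    haveI := ASB.isNoetherian_of_proper (X ↘ Spec (CommRingCat.of k))
    have hlf := ASB.GenNeg.isFinLocFree_sumL l (H23.PullPush.isFinLocFree_of_iso e hM)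
    refine ⟨(l.pmap (fun N hN => (⟨cls N, N, rfl, hlf N hN, hl N hN⟩ : Ind X)) fun N hN => hN : List (Ind X)), Subtype.ext ?_⟩
    rw [val_ofMultiset, Multiset.map_coe, Multiset.sum_coe, List.map_pmap, List.pmap_eq_map]
    exact ((cls_congr e).trans (cls_sumL l)).symm

open Classical in
/-- The multiplicities of the indecomposable summands. -/
def delta : lfClasses X ≃+ (Ind X →₀ ℕ) :=
  (AddEquiv.ofBijective (ofMultiset X) (ofMultiset_bijective X k)).symm.trans Multiset.toFinsupp

end Groth.Agent.WeilFin
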