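import Groth.Agent.WeilFin.Classes
import Groth.Agent.Lib.CurveStable
import Groth.Agent.Lib.CurveTensor
import Groth.Agent.H9PB.Roots

/-!
# Weil-finite bundles on curves are semistable of degree zero
-/

set_option autoImplicit false
set_option linter.style.haveILetI false
set_option linter.unusedSectionVars false
set_option backward.isDefEq.respectTransparency false
set_option backward.isDefEq.respectTransparency.types false
set_option maxHeartbeats 1000000

universe u

open CategoryTheory CategoryTheory.Limits AlgebraicGeometry TopologicalSpace Opposite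

noncomputable section

namespace Groth.Agent.WeilFin

open CurveBundle CurveSlope CurveStable

attribute [local instance] Abelian.hasFiniteBiproducts preservesBinaryBiproducts_of_preservesBiproducts

variable {X : Scheme.{u}} (k : Type u) [Field k] [X.Over (Spec (CommRingCat.of k))]
  [IsIntegral X] [IsProper (X ↘ Spec (CommRingCat.of k))] [Smooth (X ↘ Spec (CommRingCat.of k))]

/-- All subbundles have degree at most `C` times the rank, and the degree is at least `-C` times the rank. -/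
def SlopeBound (C : ℕ) (M : X.Modules) : Prop :=
  FlatMod.IsFinLocFree M ∧ -(C : ℤ) * rk M ≤ dg k M ∧
    ∀ (F : X.Modules) (i : F ⟶ M), Mono i → FlatMod.IsFinLocFree F → dg k F ≤ (C : ℤ) * rk F

theorem slopeBound_of_isZero (C : ℕ) {M : X.Modules} (h : IsZero M) : SlopeBound k C M := by
  refine ⟨KFlatLib.isFinLocFree_of_isZero h, by rw [rk_eq_zero_of_isZero h, dg_eq_zero_of_isZero k h]; simp, fun F i _ _ => ?_⟩
  have hF : IsZero F := (IsZero.iff_id_eq_zero F).2 ((cancel_mono i).1 (h.eq_of_tgt _ _))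
  rw [rk_eq_zero_of_isZero hF, dg_eq_zero_of_isZero k hF]
  simp

theorem exists_slopeBound (hdim : topologicalKrullDim X ≤ 1) {M : X.Modules} (hM : FlatMod.IsFinLocFree M) :
    ∃ C : ℕ, SlopeBound k C M := by
  by_cases h0 : IsZero M
  · exact ⟨0, slopeBound_of_isZero k 0 h0⟩
  have hr : 0 < rk M := (isZero_or_pos k hM).resolve_left h0
  let χ := Curv2.euler k X (Coh.structureModule X)
  let h := Module.finrank k (Coh.HH X M 0)
  refine ⟨h + χ.natAbs + (dg k M).natAbs, hM, ?_, fun F i hi hF => ?_⟩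
  · have h1 : (1 : ℤ) ≤ rk M := by exact_mod_cast hr
    push_cast
    nlinarith [mul_le_mul_of_nonneg_left h1 (abs_nonneg (dg k M)), neg_abs_le (dg k M),
      mul_nonneg (abs_nonneg χ) (Int.natCast_nonneg (rk M)), mul_nonneg (Int.natCast_nonneg h) (Int.natCast_nonneg (rk M))]
  · rcases isZero_or_pos k hF with hz | hp
    · rw [rk_eq_zero_of_isZero hz, dg_eq_zero_of_isZero k hz]; simp
    · have hle := dg_le_h0 k hdim i (coh_of_free k hF) (coh_of_free k hM)
      have h1 : (1 : ℤ) ≤ rk F := by exact_mod_cast hp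
      push_cast
      nlinarith [neg_abs_le χ, abs_nonneg (dg k M), (Int.natCast_nonneg h : (0 : ℤ) ≤ h)]

theorem SlopeBound.mono {C C' : ℕ} (hC : C ≤ C') {M : X.Modules} (h : SlopeBound k C M) : SlopeBound k C' M := by
  have hC' : (C : ℤ) ≤ C' := by exact_mod_cast hC
  refine ⟨h.1, le_trans ?_ h.2.1, fun F i hi hF => (h.2.2 F i hi hF).trans ?_⟩
  · nlinarith [Int.natCast_nonneg (rk M)]
  · nlinarith [Int.natCast_nonneg (rk F)]

theorem SlopeBound.biprod (hdim : topologicalKrullDim X ≤ 1) {C : ℕ} {A B : X.Modules}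
    (hA : SlopeBound k C A) (hB : SlopeBound k C B) : SlopeBound k C (A ⊞ B) := by
  have hAB := KFlatLib.isFinLocFree_biprod hA.1 hB.1
  refine ⟨hAB, ?_, fun F i hi hF => ?_⟩
  · have hS : (ShortComplex.mk (biprod.inl : A ⟶ A ⊞ B) biprod.snd biprod.inl_snd).ShortExact :=
      ShortComplex.Splitting.shortExact (ShortComplex.Splitting.ofHasBinaryBiproduct A B)
    rw [dg_add k _ _ _ hS (coh_of_free k hA.1) (coh_of_free k hAB) (coh_of_free k hB.1),
      rk_add_coh k _ _ _ hS (coh_of_free k hAB)]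
    push_cast
    linarith [hA.2.1, hB.2.1]
  · obtain ⟨I, π, j, hj, -, -, hKf, hIf, hrk, hdg, -, -⟩ := exists_decomp k hdim hF hB.1 (i ≫ biprod.snd)
    haveI := hi
    haveI : Mono (kernel.ι (i ≫ biprod.snd) ≫ i ≫ biprod.fst) := by
      refine Preadditive.mono_of_cancel_zero _ fun g hg => ?_
      refine (cancel_mono (kernel.ι (i ≫ biprod.snd))).1 ((cancel_mono i).1 ?_)
      apply biprod.hom_ext
      · simpa using hg
      · simp
    have h1 := hA.2.2 _ (kernel.ι (i ≫ biprod.snd) ≫ i ≫ biprod.fst) inferInstance hKf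
    have h2 := hB.2.2 I j hj hIf
    rw [hdg, hrk]
    push_cast
    linarith

theorem slopeBound_sumL (hdim : topologicalKrullDim X ≤ 1) {C : ℕ} :
    ∀ l : List X.Modules, (∀ M ∈ l, SlopeBound k C M) → SlopeBound k C (ASB.sumL l)
  | [], _ => slopeBound_of_isZero k C ASB.isZero_top
  | M :: l, h => (h M (List.mem_cons_self ..)).biprod k hdim
      (slopeBound_sumL hdim l fun N hN => h N (List.mem_cons_of_mem _ hN))

/-- The powers of a Weil finite module have uniformly bounded slopes. -/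
theorem exists_slopeBound_pow (hdim : topologicalKrullDim X ≤ 1) {E : X.Modules} (hE : FlatMod.IsFinLocFree E)
    (h : IsWeil (cls E)) : ∃ C : ℕ, ∀ n : ℕ, ∃ N : X.Modules, SlopeBound k C N ∧ Nonempty (CohB1.tensorPow E n ≅ N) := by
  classical
  obtain ⟨T, hT⟩ := bdd_of_isWeil (delta X k) ((isWeil_lf hE).2 h)
  choose M hM using fun a : Ind X => a.2
  choose C hC using fun a : Ind X => exists_slopeBound k hdim (hM a).2.1
  refine ⟨T.sup C, fun n => ?_⟩
  obtain ⟨s, hs⟩ := (ofMultiset_bijective X k).2 (lf hE ^ n)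
  have hsT : ∀ a ∈ s, a ∈ T := fun a ha => hT n (by
    rw [mem_supp]
    have hd : delta X k (lf hE ^ n) = Multiset.toFinsupp s := by
      show Multiset.toFinsupp ((AddEquiv.ofBijective (ofMultiset X) (ofMultiset_bijective X k)).symm (lf hE ^ n)) = _
      congr 1
      rw [AddEquiv.symm_apply_eq, AddEquiv.ofBijective_apply, hs]
    rw [hd, Multiset.toFinsupp_apply]
    exact Multiset.count_ne_zero.2 ha)
  refine ⟨ASB.sumL (s.toList.map M), slopeBound_sumL k hdim _ fun N hN => ?_, cls_eq_iff.1 ?_⟩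
  · obtain ⟨a, ha, rfl⟩ := List.mem_map.1 hN
    exact (hC a).mono k (Finset.le_sup (hsT a (Multiset.mem_toList.1 ha)))
  · rw [cls_tensorPow, cls_sumL, List.map_map, List.map_congr_left (f := cls ∘ M) (g := Subtype.val) fun a _ => (hM a).1.symm,
      ← Multiset.sum_coe, ← Multiset.map_coe, Multiset.coe_toList, ← val_ofMultiset, hs, SubmonoidClass.coe_pow]
    rfl

theorem exists_mono_tensor {A B A' B' : X.Modules} (hA : FlatMod.IsFinLocFree A) (hB' : FlatMod.IsFinLocFree B')
    (f : A ⟶ A') [Mono f] (g : B ⟶ B') [Mono g] :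
    ∃ φ : CohB1.tensorMod A B ⟶ CohB1.tensorMod A' B', Mono φ := by
  have h1 := (CurveTensor.shortExact_tensor hA g (cokernel.π g) (cokernel.condition g)
    (shortExact_cokernel_of_mono g)).mono_f
  have h2 := (CurveTensor.shortExact_tensor hB' f (cokernel.π f) (cokernel.condition f)
    (shortExact_cokernel_of_mono f)).mono_f
  haveI : Mono ((DCoh.tensorBi.obj A).map g) := h1
  haveI : Mono ((DCoh.tensorBi.obj B').map f) := h2
  exact ⟨(DCoh.tensorBi.obj A).map g ≫ (CurveTensor.commIso A B').hom ≫ (DCoh.tensorBi.obj B').map f ≫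
    (CurveTensor.commIso B' A').hom, mono_comp _ _⟩

theorem dg_tensor (hdim : topologicalKrullDim X = 1) {A B : X.Modules} {a b : ℕ}
    (hA : FlatMod.IsFinLocFreeOfRank a A) (hB : FlatMod.IsFinLocFreeOfRank b B) :
    dg k (CohB1.tensorMod A B) = (b : ℤ) * dg k A + (a : ℤ) * dg k B := by
  rw [← deg_eq_dg k (H9PB.isFinLocFreeOfRank_tensor hA hB), ← deg_eq_dg k hA, ← deg_eq_dg k hB]
  have h := CurveTensor.euler_tensor k hdim hA (coh_of_free k (CurveStable.isFinLocFree_of_rank hB))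
  rw [CurveBundle.rk_eq hB] at h
  have hT : Curv2.euler k X (CohB1.tensorMod A B) = (b : ℤ) * Curv2.deg k X A a + a * Curv2.euler k X B := h
  simp only [Curv2.deg] at hT ⊢
  rw [hT]
  push_cast
  ring

/-- Tensor powers of a submodule. -/
theorem exists_pow_sub (hdim : topologicalKrullDim X = 1) {E F : X.Modules} {r b : ℕ}
    (hE : FlatMod.IsFinLocFreeOfRank r E) (hF : FlatMod.IsFinLocFreeOfRank b F) (i : F ⟶ E) [Mono i] :
    ∀ n : ℕ, FlatMod.IsFinLocFreeOfRank (b ^ n) (CohB1.tensorPow F n) ∧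
      (∃ φ : CohB1.tensorPow F n ⟶ CohB1.tensorPow E n, Mono φ) ∧
      (b : ℤ) * dg k (CohB1.tensorPow F n) = (n : ℤ) * (b : ℤ) ^ n * dg k F
  | 0 => by
    have hO := InvEnd.isFinLocFreeOfRank_one (InvX.isInvertible_structureModule (X := X))
    refine ⟨(pow_zero b).symm ▸ hO, ⟨𝟙 (Coh.structureModule X), inferInstance⟩, ?_⟩
    show (b : ℤ) * dg k (Coh.structureModule X) = _
    rw [← deg_eq_dg k hO]
    simp [Curv2.deg]
  | n + 1 => by
    obtain ⟨h1, ⟨φ, hφ⟩, h3⟩ := exists_pow_sub hdim hE hF i n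
    refine ⟨by simpa [pow_succ, CohB1.tensorPow] using H9PB.isFinLocFreeOfRank_tensor h1 hF, ?_, ?_⟩
    · haveI := hφ
      exact exists_mono_tensor (CurveStable.isFinLocFree_of_rank h1) (CurveStable.isFinLocFree_of_rank hE) φ i
    · show (b : ℤ) * dg k (CohB1.tensorMod (CohB1.tensorPow F n) F) = _
      rw [dg_tensor k hdim h1 hF]
      push_cast
      linear_combination (b : ℤ) * h3

theorem dg_nonpos_of_isWeil (hdim : topologicalKrullDim X = 1) {E F : X.Modules} {r b : ℕ}
    (hE : FlatMod.IsFinLocFreeOfRank r E) (h : IsWeil (cls E)) (hF : FlatMod.IsFinLocFreeOfRank b F) (hb : 0 < b)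
    (i : F ⟶ E) [Mono i] : dg k F ≤ 0 := by
  obtain ⟨C, hC⟩ := exists_slopeBound_pow k hdim.le (CurveStable.isFinLocFree_of_rank hE) h
  by_contra hpos
  push Not at hpos
  let n := C * b + 1
  obtain ⟨hFn, ⟨φ, hφ⟩, hd⟩ := exists_pow_sub k hdim hE hF i n
  obtain ⟨N, hN, ⟨e⟩⟩ := hC n
  haveI := hφ
  have h1 := hN.2.2 _ (φ ≫ e.hom) (mono_comp _ _) (CurveStable.isFinLocFree_of_rank hFn)
  rw [CurveBundle.rk_eq hFn] at h1
  push_cast at h1
  have hbn : (0 : ℤ) < (b : ℤ) ^ n := by positivity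
  have h2 : (n : ℤ) * dg k F * (b : ℤ) ^ n ≤ (C : ℤ) * b * (b : ℤ) ^ n := by
    have := mul_le_mul_of_nonneg_left h1 (Int.natCast_nonneg b)
    linarith
  have h3 := le_of_mul_le_mul_right h2 hbn
  simp only [n] at h3
  push_cast at h3
  nlinarith [mul_le_mul_of_nonneg_left (Int.add_one_le_iff.2 hpos : (0 : ℤ) + 1 ≤ dg k F) (by positivity : (0 : ℤ) ≤ (C : ℤ) * b + 1)]

theorem dg_nonneg_of_isWeil (hdim : topologicalKrullDim X = 1) {E : X.Modules} {r : ℕ} (hr : 0 < r)
    (hE : FlatMod.IsFinLocFreeOfRank r E) (h : IsWeil (cls E)) : 0 ≤ dg k E := by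
  obtain ⟨C, hC⟩ := exists_slopeBound_pow k hdim.le (CurveStable.isFinLocFree_of_rank hE) h
  by_contra hneg
  push Not at hneg
  let n := C * r + 1
  obtain ⟨hEn, -, hd⟩ := exists_pow_sub k hdim hE hE (𝟙 E) n
  obtain ⟨N, hN, ⟨e⟩⟩ := hC n
  have h1 := hN.2.1
  rw [← rk_congr e, ← dg_congr k e, CurveBundle.rk_eq hEn] at h1
  push_cast at h1
  have hrn : (0 : ℤ) < (r : ℤ) ^ n := by positivity
  have h2 : -((C : ℤ) * r) * (r : ℤ) ^ n ≤ (n : ℤ) * dg k E * (r : ℤ) ^ n := by
    have := mul_le_mul_of_nonneg_left h1 (Int.natCast_nonneg r)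
    linarith
  have h3 := le_of_mul_le_mul_right h2 hrn
  simp only [n] at h3
  push_cast at h3
  nlinarith [mul_le_mul_of_nonneg_left (Int.add_one_le_iff.2 hneg : dg k E + 1 ≤ 0) (by positivity : (0 : ℤ) ≤ (C : ℤ) * r + 1)]

end Groth.Agent.WeilFin
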