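import Groth.Agent.WeilFin.Slope
import Groth.Agent.ExtPowSh.Filt

/-!
# Essentially finite bundles on a curve and tensor products
-/

set_option autoImplicit false
set_option linter.style.haveILetI false
set_option linter.unusedSectionVars false
set_option backward.isDefEq.respectTransparency false
set_option backward.isDefEq.respectTransparency.types false
set_option maxHeartbeats 1000000

universe u

open CategoryTheory CategoryTheory.Limits AlgebraicGeometry TopologicalSpace Opposite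

noncomputable section

namespace Groth.Agent.WeilFin

open CurveBundle CurveSlope CurveStable

variable {X : Scheme.{u}} (k : Type u) [Field k] [X.Over (Spec (CommRingCat.of k))]
  [IsIntegral X] [IsProper (X ↘ Spec (CommRingCat.of k))] [Smooth (X ↘ Spec (CommRingCat.of k))]

theorem isFinLocFree_cokernel_comp {A B C : X.Modules} (f : A ⟶ B) (g : B ⟶ C) [Mono f] [Mono g]
    (hf : FlatMod.IsFinLocFree (cokernel f)) (hg : FlatMod.IsFinLocFree (cokernel g)) :
    FlatMod.IsFinLocFree (cokernel (f ≫ g)) := by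
  have sq : IsPullback f (𝟙 A) g (f ≫ g) := by
    refine IsPullback.mk' (by simp) (fun T a b _ h => by simpa using h) fun T a b h => ?_
    exact ⟨b, ((cancel_mono g).1 (by simpa using h)).symm, by simp⟩
  let a : cokernel f ⟶ cokernel (f ≫ g) := cokernel.map f (f ≫ g) (𝟙 A) g (by simp)
  let b : cokernel (f ≫ g) ⟶ cokernel g := cokernel.map (f ≫ g) g f (𝟙 C) (by simp)
  haveI : Mono a := Abelian.mono_cokernel_map_of_isPullback sq
  have hπ : cokernel.π (f ≫ g) ≫ b = cokernel.π g := by simp [b]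
  haveI : Epi (cokernel.π (f ≫ g) ≫ b) := by rw [hπ]; infer_instance
  haveI : Epi b := epi_of_epi (cokernel.π (f ≫ g)) b
  have w : a ≫ b = 0 := by
    rw [← cancel_epi (cokernel.π f)]; simp [a, b]
  have hex : (ShortComplex.mk a b w).Exact := by
    refine ShortComplex.exact_of_g_is_cokernel _ (CokernelCofork.IsColimit.ofπ' b w fun {Z} h hh => ?_)
    have h0 : g ≫ cokernel.π (f ≫ g) ≫ h = 0 := by
      have := congrArg (cokernel.π f ≫ ·) hh
      simpa [a] using this
    refine ⟨cokernel.desc g (cokernel.π (f ≫ g) ≫ h) h0, ?_⟩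
    rw [← cancel_epi (cokernel.π (f ≫ g)), ← Category.assoc, hπ, cokernel.π_desc]
  exact ExtPowSh.isFinLocFree_X₂ (ShortComplex.ShortExact.mk' hex inferInstance inferInstance)
    (QCoh.isQCoh_of_isFinLocFree hf) hf hg

variable (X) in
/-- Semistable of degree zero, in terms of `dg`. -/
def SS0 (E : X.Modules) : Prop :=
  dg k E = 0 ∧ ∀ (F : X.Modules) (i : F ⟶ E), Mono i → FlatMod.IsFinLocFree F → dg k F ≤ 0

theorem ss0_iff {E : X.Modules} {r : ℕ} (hE : FlatMod.IsFinLocFreeOfRank r E) :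
    SS0 X k E ↔ Curv2.deg k X E r = 0 ∧ ModFun.IsSlopeSemistable k X E r := by
  refine ⟨fun h => ?_, fun h => ?_⟩
  · have h0 : Curv2.deg k X E r = 0 := by rw [deg_eq_dg k hE, h.1]
    refine ⟨h0, fun F r' i hi _ hF => ?_⟩
    rw [h0, zero_mul, deg_eq_dg k hF]
    exact mul_nonpos_of_nonpos_of_nonneg (h.2 F i hi (CurveStable.isFinLocFree_of_rank hF)) (Int.natCast_nonneg r)
  · refine ⟨by rw [← deg_eq_dg k hE, h.1], fun F i hi hF => ?_⟩
    rcases isZero_or_pos k hF with hz | hp
    · rw [dg_eq_zero_of_isZero k hz]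
    · have hr := h.2 F (rk F) i hi hp (isFinLocFreeOfRank_rk hF)
      rw [h.1, zero_mul, deg_eq_dg k (isFinLocFreeOfRank_rk hF)] at hr
      haveI := hi
      have hle := rk_le_of_mono k i (coh_of_free k (CurveStable.isFinLocFree_of_rank hE))
      rw [CurveBundle.rk_eq hE] at hle
      exact nonpos_of_mul_nonpos_left hr (by exact_mod_cast hp.trans_le hle)

theorem ss0_of_isWeil (hdim : topologicalKrullDim X = 1) {G : X.Modules} (hG : FlatMod.IsFinLocFree G)
    (h : IsWeil (cls G)) : SS0 X k G := by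
  refine ⟨?_, fun F i hi hF => ?_⟩
  · rcases isZero_or_pos k hG with hz | hp
    · exact dg_eq_zero_of_isZero k hz
    · exact le_antisymm
        (dg_nonpos_of_isWeil k hdim (isFinLocFreeOfRank_rk hG) h (isFinLocFreeOfRank_rk hG) hp (𝟙 G))
        (dg_nonneg_of_isWeil k hdim hp (isFinLocFreeOfRank_rk hG) h)
  · rcases isZero_or_pos k hF with hz | hp
    · rw [dg_eq_zero_of_isZero k hz]
    · haveI := hi
      exact dg_nonpos_of_isWeil k hdim (isFinLocFreeOfRank_rk hG) h (isFinLocFreeOfRank_rk hF) hp i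

theorem SS0.of_mono {E F : X.Modules} (h : SS0 X k E) (i : F ⟶ E) [Mono i] (h0 : dg k F = 0) : SS0 X k F :=
  ⟨h0, fun G j hj hG => by haveI := hj; exact h.2 G (j ≫ i) (mono_comp _ _) hG⟩

/-- A quotient of degree zero of a semistable bundle of degree zero is semistable. -/
theorem SS0.of_epi (hdim : topologicalKrullDim X ≤ 1) {F E : X.Modules} (hF : FlatMod.IsFinLocFree F)
    (hE : FlatMod.IsFinLocFree E) (h : SS0 X k F) (π : F ⟶ E) [Epi π] (h0 : dg k E = 0) :
    SS0 X k E := by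
  haveI := isLocallyNoetherian' k (X := X)
  refine ⟨h0, fun K j hj hK => ?_⟩
  haveI := hj
  have hFc := coh_of_free k hF
  have hEc := coh_of_free k hE
  have hKc := coh_of_free k hK
  have hQc : Coh.IsCoh (cokernel j) := QCoh.isCoh_cokernel hKc.1 hEc j
  let q : F ⟶ cokernel j := π ≫ cokernel.π j
  haveI : Epi q := epi_comp _ _
  have hPc : Coh.IsCoh (kernel q) := QCoh.isCoh_kernel hFc hQc q
  have hP := CurveBundle.isFinLocFree_of_mono k hdim hPc (kernel.ι q) hF
  have h1 := dg_add k _ _ _ (shortExact_kernel_of_epi q) hPc hFc hQc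
  have h2 := dg_add k _ _ _ (shortExact_cokernel_of_mono j) hKc hEc hQc
  have h3 := h.2 _ (kernel.ι q) inferInstance hP
  rw [h.1] at h1
  rw [h0] at h2
  linarith

include k in
theorem isWeil_tensor {A B : X.Modules} (hA : FlatMod.IsFinLocFree A) (hB : FlatMod.IsFinLocFree B)
    (hWA : IsWeil (cls A)) (hWB : IsWeil (cls B)) : IsWeil (cls (CohB1.tensorMod A B)) := by
  classical
  have h := (isWeil_of_bdd (delta X k) (bdd_mul (delta X k)
    (bdd_of_isWeil (delta X k) ((isWeil_lf hA).2 hWA)) (bdd_of_isWeil (delta X k) ((isWeil_lf hB).2 hWB)))).map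
    (lfClasses X).subtype
  exact h

variable (X) in
/-- Subquotient of degree zero of a Weil finite bundle, with bundle cokernels. -/
def IsEss (E : X.Modules) : Prop :=
  ∃ (G F₁ F₂ : X.Modules) (i₁ : F₁ ⟶ G) (i₂ : F₂ ⟶ F₁),
    FlatMod.IsFinLocFree G ∧ IsWeil (cls G) ∧ FlatMod.IsFinLocFree F₁ ∧ FlatMod.IsFinLocFree F₂ ∧
    Mono i₁ ∧ Mono i₂ ∧ FlatMod.IsFinLocFree (cokernel i₁) ∧ FlatMod.IsFinLocFree (cokernel i₂) ∧
    SS0 X k F₁ ∧ SS0 X k F₂ ∧ Nonempty (E ≅ cokernel i₂)

theorem isEss_tensor (hdim : topologicalKrullDim X = 1) {E E' : X.Modules} {r r' : ℕ}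
    (hE : FlatMod.IsFinLocFreeOfRank r E) (hE' : FlatMod.IsFinLocFreeOfRank r' E')
    (hd : dg k E = 0) (hd' : dg k E' = 0) (h : IsEss X k E) (h' : IsEss X k E') :
    FlatMod.IsFinLocFreeOfRank (r * r') (CohB1.tensorMod E E') ∧
      SS0 X k (CohB1.tensorMod E E') ∧ IsEss X k (CohB1.tensorMod E E') := by
  obtain ⟨G, F, F₂, i, i₂, hG, hW, hF, -, _, _, hci, -, hsF, -, ⟨e⟩⟩ := h
  obtain ⟨G', F', F₂', i', i₂', hG', hW', hF', -, _, _, hci', -, hsF', -, ⟨e'⟩⟩ := h'
  have hEf := CurveStable.isFinLocFree_of_rank hE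
  have hEf' := CurveStable.isFinLocFree_of_rank hE'
  have hT := H9PB.isFinLocFreeOfRank_tensor hE hE'
  have hTf := CurveStable.isFinLocFree_of_rank hT
  have hGT := CurveStable.isFinLocFree_of_rank
    (H9PB.isFinLocFreeOfRank_tensor (isFinLocFreeOfRank_rk hG) (isFinLocFreeOfRank_rk hG'))
  have hFT' := H9PB.isFinLocFreeOfRank_tensor (isFinLocFreeOfRank_rk hF) (isFinLocFreeOfRank_rk hF')
  have hFT := CurveStable.isFinLocFree_of_rank hFT'
  have hdT : dg k (CohB1.tensorMod E E') = 0 := by rw [dg_tensor k hdim hE hE', hd, hd']; simp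
  have hdF : dg k (CohB1.tensorMod F F') = 0 := by
    rw [dg_tensor k hdim (isFinLocFreeOfRank_rk hF) (isFinLocFreeOfRank_rk hF'), hsF.1, hsF'.1]; simp
  -- the inclusion
  have S₁ := CurveTensor.shortExact_tensor hF i' (cokernel.π i') (cokernel.condition i') (shortExact_cokernel_of_mono i')
  have S₂ := CurveTensor.shortExact_tensor hG' i (cokernel.π i) (cokernel.condition i) (shortExact_cokernel_of_mono i)
  let f₁ : CohB1.tensorMod F F' ⟶ (DCoh.tensorBi.obj G').obj F :=
    (DCoh.tensorBi.obj F).map i' ≫ (CurveTensor.commIso F G').hom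
  let f₂ : (DCoh.tensorBi.obj G').obj F ⟶ CohB1.tensorMod G G' :=
    (DCoh.tensorBi.obj G').map i ≫ (CurveTensor.commIso G' G).hom
  haveI : Mono ((DCoh.tensorBi.obj F).map i') := S₁.mono_f
  haveI : Mono ((DCoh.tensorBi.obj G').map i) := S₂.mono_f
  haveI : Mono f₁ := mono_comp _ _
  haveI : Mono f₂ := mono_comp _ _
  have hc₁ : FlatMod.IsFinLocFree (cokernel f₁) :=
    H23.PullPush.isFinLocFree_of_iso ((cokernelCompIsIso _ _) ≪≫
      (cokernelIsCokernel _).coconePointUniqueUpToIso S₁.gIsCokernel).symm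
      (CurveStable.isFinLocFree_of_rank (H9PB.isFinLocFreeOfRank_tensor (isFinLocFreeOfRank_rk hF) (isFinLocFreeOfRank_rk hci')))
  have hc₂ : FlatMod.IsFinLocFree (cokernel f₂) :=
    H23.PullPush.isFinLocFree_of_iso ((cokernelCompIsIso _ _) ≪≫
      (cokernelIsCokernel _).coconePointUniqueUpToIso S₂.gIsCokernel).symm
      (CurveStable.isFinLocFree_of_rank (H9PB.isFinLocFreeOfRank_tensor (isFinLocFreeOfRank_rk hG') (isFinLocFreeOfRank_rk hci)))
  haveI : Mono (f₁ ≫ f₂) := mono_comp _ _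
  have hWT := isWeil_tensor k hG hG' hW hW'
  have hsFT : SS0 X k (CohB1.tensorMod F F') :=
    (ss0_of_isWeil k hdim hGT hWT).of_mono k (f₁ ≫ f₂) hdF
  -- the projection
  let q : F ⟶ E := cokernel.π i₂ ≫ e.inv
  let q' : F' ⟶ E' := cokernel.π i₂' ≫ e'.inv
  let π : CohB1.tensorMod F F' ⟶ CohB1.tensorMod E E' :=
    (DCoh.tensorBi.obj F).map q' ≫ (CurveTensor.commIso F E').hom ≫
      (DCoh.tensorBi.obj E').map q ≫ (CurveTensor.commIso E' E).hom
  haveI : Epi ((DCoh.tensorBi.obj F).map q') :=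
    (CurveTensor.shortExact_tensor hF (kernel.ι q') q' (kernel.condition q') (shortExact_kernel_of_epi q')).epi_g
  haveI : Epi ((DCoh.tensorBi.obj E').map q) :=
    (CurveTensor.shortExact_tensor hEf' (kernel.ι q) q (kernel.condition q) (shortExact_kernel_of_epi q)).epi_g
  haveI : Epi π := epi_comp' inferInstance (epi_comp' inferInstance (epi_comp' inferInstance inferInstance))
  have hsT := hsFT.of_epi k hdim.le hFT hTf π hdT
  obtain ⟨_, _, _, -, -, -, hKf, -, -, -, -, -⟩ := exists_decomp k hdim.le hFT hTf π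
  have hdK : dg k (kernel π) = 0 := by
    have h1 := dg_add k _ _ _ (shortExact_kernel_of_epi π) (coh_of_free k hKf) (coh_of_free k hFT) (coh_of_free k hTf)
    rw [hdF, hdT] at h1
    linarith
  let φ : CohB1.tensorMod E E' ≅ cokernel (kernel.ι π) :=
    ((shortExact_kernel_of_epi π).gIsCokernel).coconePointUniqueUpToIso (colimit.isColimit (parallelPair (kernel.ι π) 0))
  exact ⟨hT, hsT, CohB1.tensorMod G G', CohB1.tensorMod F F', kernel π, f₁ ≫ f₂, kernel.ι π, hGT, hWT, hFT,
    hKf, inferInstance, inferInstance, isFinLocFree_cokernel_comp f₁ f₂ hc₁ hc₂,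
    H23.PullPush.isFinLocFree_of_iso φ hTf, hsFT, hsFT.of_mono k (kernel.ι π) hdK, ⟨φ⟩⟩

end Groth.Agent.WeilFin
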