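import Mathlib

/-!
# Finiteness in the sense of Weil in a semiring which is free as an additive monoid

An element `x` satisfies `P(x) = Q(x)` for two different polynomials with natural coefficients if and only if
only finitely many basis elements occur in its powers.
-/

set_option autoImplicit false
set_option linter.style.haveILetI false
set_option maxHeartbeats 1000000

universe u v

open Polynomial

noncomputable section

namespace Groth.Agent.WeilFin

variable {S : Type u} [CommSemiring S]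

/-- Two different polynomials with natural coefficients agree at `x`. -/
def IsWeil (x : S) : Prop := ∃ P Q : ℕ[X], P ≠ Q ∧ P.eval₂ (Nat.castRingHom S) x = Q.eval₂ (Nat.castRingHom S) x

theorem IsWeil.map {T : Type*} [CommSemiring T] (f : S →+* T) {x : S} (h : IsWeil x) : IsWeil (f x) := by
  obtain ⟨P, Q, hne, he⟩ := h
  refine ⟨P, Q, hne, ?_⟩
  have := congrArg f he
  rwa [hom_eval₂, hom_eval₂, Subsingleton.elim (f.comp (Nat.castRingHom S)) (Nat.castRingHom T)] at this

variable {I : Type v} (δ : S ≃+ (I →₀ ℕ))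

/-- The basis elements occurring in `x`. -/
def supp (x : S) : Finset I := (δ x).support

/-- Only finitely many basis elements occur in the powers of `x`. -/
def Bdd (x : S) : Prop := ∃ T : Finset I, ∀ n : ℕ, supp δ (x ^ n) ⊆ T

theorem mem_supp {x : S} {i : I} : i ∈ supp δ x ↔ δ x i ≠ 0 := Finsupp.mem_support_iff

theorem supp_add (x y : S) : supp δ x ⊆ supp δ (x + y) := fun i hi => by
  rw [mem_supp] at hi ⊢
  rw [map_add, Finsupp.add_apply]
  omega

theorem delta_mul_natCast (c : ℕ) (y : S) (i : I) : δ ((c : S) * y) i = c * δ y i := by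
  rw [← nsmul_eq_mul, map_nsmul, Finsupp.smul_apply, smul_eq_mul]

theorem delta_eval₂ (P : ℕ[X]) {N : ℕ} (hN : P.natDegree < N) (x y : S) (i : I) :
    δ (P.eval₂ (Nat.castRingHom S) x * y) i = ∑ j ∈ Finset.range N, P.coeff j * δ (x ^ j * y) i := by
  rw [eval₂_eq_sum_range' _ hN, Finset.sum_mul, map_sum, Finsupp.finsetSum_apply]
  refine Finset.sum_congr rfl fun j _ => ?_
  rw [Nat.coe_castRingHom, mul_assoc, delta_mul_natCast]

theorem bdd_of_isWeil {x : S} (h : IsWeil x) : Bdd δ x := by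
  classical
  obtain ⟨P, Q, hne, he⟩ := h
  obtain ⟨M, hP, hQ⟩ : ∃ M : ℕ, P.natDegree < M ∧ Q.natDegree < M :=
    ⟨max P.natDegree Q.natDegree + 1, by omega, by omega⟩
  let s := (Finset.range M).filter fun j => P.coeff j ≠ Q.coeff j
  have hs : s.Nonempty := by
    by_contra h
    apply hne
    ext j
    by_contra hj
    have hjM : j < M := by
      by_contra hjM
      exact hj (by rw [coeff_eq_zero_of_natDegree_lt (by omega), coeff_eq_zero_of_natDegree_lt (by omega)])
    exact h ⟨j, Finset.mem_filter.2 ⟨Finset.mem_range.2 hjM, hj⟩⟩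
  let d := s.max' hs
  obtain ⟨hdM, hd⟩ := Finset.mem_filter.1 (s.max'_mem hs)
  refine ⟨(Finset.range d).biUnion fun j => supp δ (x ^ j), fun n => ?_⟩
  induction n using Nat.strong_induction_on with
  | _ n ih =>
    intro i hi
    by_contra hiT
    have hdn : d ≤ n := by
      by_contra hdn
      exact hiT (Finset.mem_biUnion.2 ⟨n, Finset.mem_range.2 (by omega), hi⟩)
    have hlow : ∀ j, j < d → δ (x ^ j * x ^ (n - d)) i = 0 := fun j hj => by
      by_contra h0
      rw [← pow_add] at h0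
      exact hiT (ih (j + (n - d)) (by omega) ((mem_supp δ).2 h0))
    have hhigh : ∀ j ∈ Finset.range M, d < j → P.coeff j = Q.coeff j := fun j hj hdj => by
      by_contra hjne
      have := s.le_max' j (Finset.mem_filter.2 ⟨hj, hjne⟩)
      omega
    have h1 : ∑ j ∈ Finset.range M, P.coeff j * δ (x ^ j * x ^ (n - d)) i =
        ∑ j ∈ Finset.range M, Q.coeff j * δ (x ^ j * x ^ (n - d)) i := by
      rw [← delta_eval₂ δ P hP, ← delta_eval₂ δ Q hQ, he]
    rw [← Finset.add_sum_erase _ _ hdM, ← Finset.add_sum_erase _ _ hdM,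
      Finset.sum_congr rfl (g := fun j => Q.coeff j * δ (x ^ j * x ^ (n - d)) i) fun j hj => ?_] at h1
    · have h2 := Nat.add_right_cancel h1
      rw [← pow_add, Nat.add_sub_cancel' hdn] at h2
      exact hd (mul_right_cancel₀ ((mem_supp δ).1 hi) h2)
    · obtain ⟨hjd, hjM⟩ := Finset.mem_erase.1 hj
      rcases lt_or_gt_of_ne hjd with hlt | hgt
      · rw [hlow j hlt, mul_zero, mul_zero]
      · rw [hhigh j hjM hgt]

theorem isWeil_of_bdd {x : S} (h : Bdd δ x) : IsWeil x := by
  classical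
  obtain ⟨T, hT⟩ := h
  let N := T.card + 1
  let v : Fin N → (↥T → ℤ) := fun n i => (δ (x ^ (n : ℕ)) i : ℤ)
  have hv : ¬ LinearIndependent ℤ v := fun hv => by
    have := hv.fintype_card_le_finrank
    simp [N] at this
  obtain ⟨g, hg, n₀, hn₀⟩ := Fintype.not_linearIndependent_iff.1 hv
  let pol : (Fin N → ℕ) → ℕ[X] := fun a => ∑ n : Fin N, monomial (n : ℕ) (a n)
  have hco : ∀ (a : Fin N → ℕ) (n : Fin N), (pol a).coeff n = a n := fun a n => by
    simp only [pol, finsetSum_coeff, coeff_monomial]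
    rw [Finset.sum_eq_single n (fun m _ hm => if_neg fun h => hm (Fin.ext h))
      (fun h => absurd (Finset.mem_univ n) h), if_pos rfl]
  have hev : ∀ (a : Fin N → ℕ) (i : I), δ ((pol a).eval₂ (Nat.castRingHom S) x) i = ∑ n : Fin N, a n * δ (x ^ (n : ℕ)) i := fun a i => by
    simp only [pol, eval₂_finsetSum, eval₂_monomial, map_sum, Finsupp.finsetSum_apply, Nat.coe_castRingHom,
      delta_mul_natCast]
  refine ⟨pol fun n => (g n).toNat, pol fun n => (-g n).toNat, fun he => hn₀ ?_, δ.injective (Finsupp.ext fun i => ?_)⟩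
  · have := congrArg (fun p => p.coeff (n₀ : ℕ)) he
    simp only [hco] at this
    omega
  · rw [hev, hev]
    by_cases hi : i ∈ T
    · have h1 := congrFun hg ⟨i, hi⟩
      simp only [Finset.sum_apply, Pi.smul_apply, smul_eq_mul, v, Pi.zero_apply] at h1
      have h2 : ∀ n : Fin N, ((g n).toNat : ℤ) - ((-g n).toNat : ℤ) = g n := fun n => by omega
      have h3 : ∑ n : Fin N, ((g n).toNat : ℤ) * (δ (x ^ (n : ℕ)) i : ℤ) -
          ∑ n : Fin N, ((-g n).toNat : ℤ) * (δ (x ^ (n : ℕ)) i : ℤ) = 0 := by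
        rw [← Finset.sum_sub_distrib, ← h1]
        exact Finset.sum_congr rfl fun n _ => by rw [← sub_mul, h2]
      exact_mod_cast sub_eq_zero.1 h3
    · have h0 : ∀ n : ℕ, δ (x ^ n) i = 0 := fun n => by
        by_contra h
        exact hi (hT n ((mem_supp δ).2 h))
      simp [h0]

/-- The element of a basis index. -/
def bas (i : I) : S := δ.symm (Finsupp.single i 1)

theorem sum_bas (x : S) : ∑ a ∈ supp δ x, δ x a • bas δ a = x := by
  apply δ.injective
  rw [map_sum]
  simp only [map_nsmul, bas, AddEquiv.apply_symm_apply, Finsupp.smul_single, smul_eq_mul, mul_one]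
  exact Finsupp.sum_single (δ x)

theorem supp_mul_subset [DecidableEq I] {x y : S} {T U : Finset I} (hx : supp δ x ⊆ T) (hy : supp δ y ⊆ U) :
    supp δ (x * y) ⊆ (T ×ˢ U).biUnion fun p => supp δ (bas δ p.1 * bas δ p.2) := by
  intro i hi
  rw [mem_supp] at hi
  by_contra h
  apply hi
  rw [← sum_bas δ x, ← sum_bas δ y, Finset.sum_mul_sum, map_sum, Finsupp.finsetSum_apply]
  refine Finset.sum_eq_zero fun a ha => ?_
  rw [map_sum, Finsupp.finsetSum_apply]
  refine Finset.sum_eq_zero fun b hb => ?_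
  rw [smul_mul_smul_comm, map_nsmul, Finsupp.smul_apply, smul_eq_mul, mul_eq_zero]
  right
  by_contra h0
  exact h (Finset.mem_biUnion.2 ⟨(a, b), Finset.mem_product.2 ⟨hx ha, hy hb⟩, (mem_supp δ).2 h0⟩)

theorem bdd_mul {x y : S} (hx : Bdd δ x) (hy : Bdd δ y) : Bdd δ (x * y) := by
  classical
  obtain ⟨T, hT⟩ := hx
  obtain ⟨U, hU⟩ := hy
  exact ⟨_, fun n => mul_pow x y n ▸ supp_mul_subset δ (hT n) (hU n)⟩

theorem bdd_add {x y : S} (hx : Bdd δ x) (hy : Bdd δ y) : Bdd δ (x + y) := by
  classical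
  obtain ⟨T, hT⟩ := hx
  obtain ⟨U, hU⟩ := hy
  refine ⟨(T ×ˢ U).biUnion fun p => supp δ (bas δ p.1 * bas δ p.2), fun n i hi => ?_⟩
  rw [mem_supp, add_pow, map_sum, Finsupp.finsetSum_apply] at hi
  obtain ⟨m, -, hm⟩ := Finset.exists_ne_zero_of_sum_ne_zero hi
  rw [mul_comm, delta_mul_natCast, mul_ne_zero_iff] at hm
  exact supp_mul_subset δ (hT m) (hU (n - m)) ((mem_supp δ).2 hm.2)

theorem bdd_of_add {x y : S} (h : Bdd δ (x + y)) : Bdd δ x := by
  obtain ⟨T, hT⟩ := h
  have hle : ∀ n : ℕ, ∃ r, (x + y) ^ n = x ^ n + r := fun n => by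
    induction n with
    | zero => exact ⟨0, by simp⟩
    | succ n ih =>
      obtain ⟨r, hr⟩ := ih
      exact ⟨x ^ n * y + r * (x + y), by rw [pow_succ, hr, pow_succ]; ring⟩
  refine ⟨T, fun n => ?_⟩
  obtain ⟨r, hr⟩ := hle n
  exact ((supp_add δ _ r).trans (hr ▸ subset_rfl)).trans (hT n)

/-- The number of basis elements in `x`, counted with multiplicity. -/
def size : S →+ ℕ :=
  (Finsupp.liftAddHom fun _ : I => AddMonoidHom.id ℕ).comp δ.toAddMonoidHom

theorem size_apply (x : S) : size δ x = ∑ a ∈ supp δ x, δ x a := rfl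

theorem size_eq_zero {x : S} : size δ x = 0 ↔ x = 0 := by
  refine ⟨fun h => ?_, fun h => by rw [h, map_zero]⟩
  rw [size_apply, Finset.sum_eq_zero_iff] at h
  apply δ.injective
  ext i
  rw [map_zero, Finsupp.zero_apply]
  by_contra h0
  exact h0 (h i ((mem_supp δ).2 h0))

/-- Units are basis elements when `1` is one. -/
theorem exists_eq_bas (h1 : size δ (1 : S) = 1) {u : S} (hu : IsUnit u) : ∃ a, u = bas δ a := by
  classical
  obtain ⟨v, hv⟩ := hu.exists_right_inv
  have hvu : v * u = 1 := by rw [mul_comm, hv]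
  have hpos : ∀ a, 1 ≤ size δ (bas δ a * v) := fun a => by
    rw [Nat.one_le_iff_ne_zero, Ne, size_eq_zero]
    intro h0
    have : bas δ a = 0 := by rw [← mul_one (bas δ a), ← hvu, ← mul_assoc, h0, zero_mul]
    have := congrArg (fun s => δ s a) this
    simp [bas] at this
  have key : ∑ a ∈ supp δ u, δ u a * size δ (bas δ a * v) = 1 := by
    calc ∑ a ∈ supp δ u, δ u a * size δ (bas δ a * v)
        = size δ ((∑ a ∈ supp δ u, δ u a • bas δ a) * v) := by
          rw [Finset.sum_mul, map_sum]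
          refine Finset.sum_congr rfl fun a _ => ?_
          rw [smul_mul_assoc, map_nsmul, smul_eq_mul]
      _ = 1 := by rw [sum_bas, hv, h1]
  have hle : size δ u ≤ 1 := by
    rw [size_apply, ← key]
    exact Finset.sum_le_sum fun a _ => Nat.le_mul_of_pos_right _ (hpos a)
  have hne : size δ u ≠ 0 := fun h0 => by
    rw [size_eq_zero] at h0
    rw [h0, zero_mul] at hv
    rw [← hv, map_zero] at h1
    exact zero_ne_one h1
  have hsum : ∑ a ∈ supp δ u, δ u a = 1 := by rw [← size_apply]; omega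
  obtain ⟨a, ha, hane⟩ := Finset.exists_ne_zero_of_sum_ne_zero (s := supp δ u) (f := fun a => δ u a) (by rw [hsum]; exact one_ne_zero)
  refine ⟨a, ?_⟩
  have h1a : δ u a = 1 := by
    have := Finset.single_le_sum (f := fun b => δ u b) (fun b _ => Nat.zero_le _) ha
    omega
  have hsingle : supp δ u = {a} := by
    refine Finset.eq_singleton_iff_unique_mem.2 ⟨ha, fun b hb => by_contra fun hba => ?_⟩
    have hb0 := (mem_supp δ).1 hb
    have h2 := Finset.add_sum_erase (supp δ u) (fun b => δ u b) ha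
    have h3 := Finset.single_le_sum (f := fun b => δ u b) (fun b _ => Nat.zero_le _) (Finset.mem_erase.2 ⟨hba, hb⟩)
    omega
  calc u = ∑ b ∈ supp δ u, δ u b • bas δ b := (sum_bas δ u).symm
    _ = bas δ a := by rw [hsingle, Finset.sum_singleton, h1a, one_smul]

theorem isWeil_of_pow_eq_one [Nontrivial S] {x : S} {m : ℕ} (hm : 0 < m) (h : x ^ m = 1) : IsWeil x := by
  refine ⟨X ^ m, 1, fun he => ?_, by rw [eval₂_X_pow, eval₂_one, h]⟩
  have := congrArg natDegree he
  rw [natDegree_X_pow, natDegree_one] at this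
  omega

theorem exists_pow_eq_one (h1 : size δ (1 : S) = 1) {u : S} (hu : IsUnit u) (h : IsWeil u) :
    ∃ m, 0 < m ∧ u ^ m = 1 := by
  obtain ⟨T, hT⟩ := bdd_of_isWeil δ h
  choose a ha using fun n : ℕ => exists_eq_bas δ h1 (hu.pow n)
  have hmem : ∀ n, a n ∈ T := fun n => hT n (by
    rw [mem_supp, ha n]
    simp [bas])
  obtain ⟨m, n, hne, he⟩ := Finite.exists_ne_map_eq_of_infinite fun n : ℕ => (⟨a n, hmem n⟩ : T)
  have he' : u ^ m = u ^ n := by rw [ha m, ha n]; exact congrArg (bas δ) (congrArg Subtype.val he)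
  rcases lt_or_gt_of_ne hne with h | h
  · refine ⟨n - m, by omega, (hu.pow m).mul_left_cancel ?_⟩
    rw [mul_one, ← pow_add, Nat.add_sub_cancel' h.le, he']
  · refine ⟨m - n, by omega, (hu.pow n).mul_left_cancel ?_⟩
    rw [mul_one, ← pow_add, Nat.add_sub_cancel' h.le, he']

end Groth.Agent.WeilFin
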